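/-
Exact orders of subgroups of the presented Suzuki group from transversals and equations.
-/
import Cfsg.Agent.H93.SuzOrder
import Cfsg.Agent.H93.GroupOrder2

set_option autoImplicit false
set_option maxRecDepth 100000
set_option linter.style.haveILetI false

namespace H92.SuzU

open H93 H93.Coset

abbrev G : Type := Cfsg.Spor.Suz

noncomputable abbrev sev (w : List ℕ) : G := ev SuzOrder.gen w

theorem model : Model SuzLG.data SuzOrder.gen
    ((Subgroup.closure {r | r ∈ SuzLG.sub}).map (PresentedGroup.mk _)) := SuzLG.fit.model

theorem finite : Finite G := SuzOrder.card_le.1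

theorem card_G : Nat.card G = 448345497600 := SuzOrder.isSuz.2

/-- The base points. -/
def bpts : List ℕ := [7, 122, 76, 44, 0]

theorem bpts_eq : chainPts [0] SuzLGChain.levels.tail = bpts := by decide +kernel

theorem tail_ok : chainOK SuzLG.data [0] SuzLGChain.levels.tail = true := by decide +kernel

/-- All letters are generator numbers. -/
def letters7 (w : List ℕ) : Bool := w.all fun g => Nat.blt g 7

theorem letters7_spec {w : List ℕ} (h : letters7 w = true) : ∀ g ∈ w, g < SuzLG.data.ng := by
  have h' : ∀ g ∈ w, g < 7 := by simpa [letters7, Nat.blt_eq] using h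
  exact h'

/-- Two words have the same value. -/
noncomputable def same (u w : List ℕ) : Bool :=
  letters7 u && letters7 w &&
    bpts.all fun p => walk SuzLG.data.T (u ++ w.reverse) p (Nat.beq p)

theorem same_spec {u w : List ℕ} (h : same u w = true) : sev u = sev w := by
  haveI := finite
  simp only [same, Bool.and_eq_true, List.all_eq_true, walk_eq, Nat.beq_eq] at h
  obtain ⟨⟨hu, hw⟩, h⟩ := h
  have h1 : sev (u ++ w.reverse) = 1 := by
    refine model.eq_one_of_fix_base tail_ok ?_ (fun g hg => ?_) fun p hp => ?_
    · rw [card_G]; decide +kernel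
    · rcases List.mem_append.1 hg with hg | hg
      · exact letters7_spec hu g hg
      · exact letters7_spec hw g (List.mem_reverse.1 hg)
    · rw [bpts_eq] at hp
      exact (h p hp).symm
  change ev SuzOrder.gen (u ++ w.reverse) = 1 at h1
  rw [ev_append, ev_reverse SuzOrder.gen (fun g hg => model.inv g hg) w (letters7_spec hw)] at h1
  exact (inv_mul_eq_one.1 h1).symm

/-- A level: a point, its orbit, transversal words, generators, and certificates. -/
structure Lvl where
  b : ℕ
  pts : List ℕ
  U : List (List ℕ)
  gens : List (List ℕ)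
  eqs : List (ℕ × List ℕ)
  tree : List (ℕ × ℕ)
  nest : List (List ℕ)

/-- The group of a chain of levels. -/
noncomputable def Kh : List Lvl → Subgroup G
  | [] => ⊥
  | L :: _ => Subgroup.closure {x | ∃ w ∈ L.gens, sev w = x}

/-- The word of a product of transversal elements. -/
def kw : List Lvl → List ℕ → List ℕ
  | L :: ls, x :: xs => kw ls xs ++ L.U.getD x []
  | _, _ => []

/-- The generators of the first level of a chain. -/
def headGens : List Lvl → List (List ℕ)
  | [] => []
  | L :: _ => L.gens

/-- The check of one equation. -/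
noncomputable def eqOK (L : Lvl) (ls : List Lvl) (c s : ℕ) : Bool :=
  let e := L.eqs.getD (c * L.gens.length + s) (0, [])
  Nat.blt e.1 L.pts.length &&
    same (L.U.getD c [] ++ L.gens.getD s []) (kw ls e.2 ++ L.U.getD e.1 [])

/-- The check of one level over the deeper levels. -/
noncomputable def lvlOK (L : Lvl) (ls : List Lvl) : Bool :=
  Nat.blt 0 L.pts.length && Nat.blt L.b 1782 && L.gens.all letters7 && L.U.all letters7 &&
  Nat.beq L.U.length L.pts.length && decide L.pts.Nodup && decide (L.U.getD 0 [] = []) &&
  (List.range L.pts.length).all (fun c =>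
    walk SuzLG.data.T (L.U.getD c []) L.b (Nat.beq (L.pts.getD c 0))) &&
  (List.range L.pts.length).all (fun c => (List.range L.gens.length).all fun s => eqOK L ls c s) &&
  (List.range L.pts.length).all (fun d => Nat.beq d 0 ||
    let t := L.tree.getD d (0, 0)
    Nat.blt t.1 d && Nat.blt t.2 L.gens.length &&
      Nat.beq (L.eqs.getD (t.1 * L.gens.length + t.2) (0, [])).1 d) &&
  Nat.beq L.nest.length (headGens ls).length &&
  (List.range L.nest.length).all (fun j =>
    (L.nest.getD j []).all (fun i => Nat.blt i L.gens.length) &&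
      same ((headGens ls).getD j []) ((L.nest.getD j []).flatMap fun i => L.gens.getD i [])) &&
  (headGens ls).all fun w => walk SuzLG.data.T w L.b (Nat.beq L.b)

/-- All levels are correct. -/
noncomputable def chainsOK : List Lvl → Bool
  | [] => true
  | L :: ls => lvlOK L ls && chainsOK ls

theorem gens_mem {L : Lvl} {ls : List Lvl} {i : ℕ} (hi : i < L.gens.length) :
    sev (L.gens.getD i []) ∈ Kh (L :: ls) := by
  refine Subgroup.subset_closure ⟨_, ?_, rfl⟩
  rw [List.getD_eq_getElem _ _ hi]
  exact List.getElem_mem hi

theorem sev_flatMap_mem {L : Lvl} {ls : List Lvl} : ∀ {l : List ℕ}, (∀ i ∈ l, i < L.gens.length) →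
    sev (l.flatMap fun i => L.gens.getD i []) ∈ Kh (L :: ls)
  | [], _ => by
      show ev SuzOrder.gen [] ∈ _
      exact one_mem _
  | i :: l, h => by
      rw [List.flatMap_cons]
      show ev SuzOrder.gen (_ ++ _) ∈ _
      rw [ev_append]
      exact mul_mem (sev_flatMap_mem fun j hj => h j (List.mem_cons_of_mem _ hj))
        (gens_mem (h i List.mem_cons_self))

/-- The product of the orbit lengths. -/
def lvlProd : List Lvl → ℕ
  | [] => 1
  | L :: ls => L.pts.length * lvlProd ls

theorem chains_spec : ∀ (ls : List Lvl), chainsOK ls = true →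
    Nat.card (Kh ls) = lvlProd ls ∧ ∀ xs, sev (kw ls xs) ∈ Kh ls
  | [], _ => ⟨Subgroup.card_bot, fun xs => by simp [kw, Kh, sev, ev]⟩
  | L :: ls, h => by
      haveI := finite
      rw [chainsOK, Bool.and_eq_true] at h
      obtain ⟨hcard, hkw⟩ := chains_spec ls h.2
      have h' := h.1
      simp only [lvlOK, Bool.and_eq_true, List.all_eq_true, List.mem_range, Nat.beq_eq, Nat.blt_eq,
        decide_eq_true_eq, walk_eq, Bool.or_eq_true] at h'
      obtain ⟨⟨⟨⟨⟨⟨⟨⟨⟨⟨⟨⟨hpos, hb⟩, hgl⟩, hUl⟩, hlen⟩, hnd⟩, hU0⟩, himg⟩, heq⟩, htree⟩, hnl⟩, hnest⟩, hfix⟩ := h'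
      have hle : Kh ls ≤ Kh (L :: ls) := by
        cases ls with
        | nil => exact bot_le
        | cons L' ls' =>
          refine (Subgroup.closure_le _).2 ?_
          rintro x ⟨w, hw, rfl⟩
          obtain ⟨j, hj, rfl⟩ := List.getElem_of_mem hw
          obtain ⟨hi, hs⟩ := hnest j (by rw [hnl]; exact hj)
          have e : (headGens (L' :: ls')).getD j [] = L'.gens[j] := List.getD_eq_getElem _ _ hj
          rw [e] at hs
          rw [SetLike.mem_coe, same_spec hs]
          exact sev_flatMap_mem hi
      let u : ℕ → G := fun c => sev (L.U.getD c [])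
      have hstep : ∀ c, c < L.pts.length → ∀ s, s < L.gens.length → ∃ k ∈ Kh ls,
          (L.eqs.getD (c * L.gens.length + s) (0, [])).1 < L.pts.length ∧
            sev (L.gens.getD s []) * u c =
              u (L.eqs.getD (c * L.gens.length + s) (0, [])).1 * k := by
        intro c hc s hs
        have h1 := heq c hc s hs
        simp only [eqOK, Bool.and_eq_true, Nat.blt_eq] at h1
        refine ⟨_, hkw (L.eqs.getD (c * L.gens.length + s) (0, [])).2, h1.1, ?_⟩
        have h2 := same_spec h1.2
        change ev SuzOrder.gen (_ ++ _) = ev SuzOrder.gen (_ ++ _) at h2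
        rw [ev_append, ev_append] at h2
        exact h2
      have hu : ∀ d, d < L.pts.length → u d ∈ Kh (L :: ls) := by
        intro d
        induction d using Nat.strong_induction_on with
        | h d ih =>
          intro hd
          rcases htree d hd with h0 | h0
          · subst h0
            show sev (L.U.getD 0 []) ∈ _
            rw [hU0]
            show ev SuzOrder.gen [] ∈ _
            exact one_mem _
          · obtain ⟨⟨ht1, ht2⟩, ht3⟩ := h0
            obtain ⟨k, hk, -, he⟩ := hstep _ (ht1.trans hd) _ ht2
            rw [ht3] at he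
            rw [show u d = sev (L.gens.getD (L.tree.getD d (0, 0)).2 []) * u (L.tree.getD d (0, 0)).1 * k⁻¹
              by rw [he, mul_inv_cancel_right]]
            exact mul_mem (mul_mem (gens_mem ht2) (ih _ ht1 (ht1.trans hd))) (inv_mem (hle hk))
      have hcov : ∀ x ∈ Kh (L :: ls), ∃ c, c < L.pts.length ∧ ∃ k ∈ Kh ls, x = u c * k := by
        intro x hx
        have hx' : x ∈ Submonoid.closure {x | ∃ w ∈ L.gens, sev w = x} := by
          rw [← Subgroup.closure_toSubmonoid_of_finite]
          exact hx
        induction hx' using Submonoid.closure_induction_left with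
        | one =>
          refine ⟨0, hpos, 1, one_mem _, ?_⟩
          show 1 = sev (L.U.getD 0 []) * 1
          rw [hU0]
          simp [sev, ev]
        | mul_left y hy z hz ih =>
          obtain ⟨w, hw, rfl⟩ := hy
          obtain ⟨s, hs, rfl⟩ := List.getElem_of_mem hw
          have hz' : z ∈ Kh (L :: ls) := by
            show z ∈ Subgroup.closure _
            rw [← Subgroup.mem_toSubmonoid, Subgroup.closure_toSubmonoid_of_finite]
            exact hz
          obtain ⟨c, hc, k, hk, rfl⟩ := ih hz'
          obtain ⟨k', hk', hd, he⟩ := hstep c hc s hs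
          refine ⟨_, hd, k' * k, mul_mem hk' hk, ?_⟩
          rw [← List.getD_eq_getElem L.gens [] hs, ← mul_assoc, he, mul_assoc]
      have hKfix : ∀ k ∈ Kh ls, model.act k ⟨L.b, hb⟩ = ⟨L.b, hb⟩ := by
        intro k hk
        cases ls with
        | nil =>
          rw [Kh, Subgroup.mem_bot] at hk
          simp [hk]
        | cons L' ls' =>
          have hl : ∀ w ∈ L'.gens, letters7 w = true := by
            have h2 := h.2
            rw [chainsOK, Bool.and_eq_true] at h2
            have h3 := h2.1
            simp only [lvlOK, Bool.and_eq_true, List.all_eq_true] at h3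
            exact h3.1.1.1.1.1.1.1.1.1.1.2
          refine Subgroup.closure_induction (p := fun x _ => model.act x ⟨L.b, hb⟩ = ⟨L.b, hb⟩) ?_
            (by simp) ?_ ?_ hk
          · rintro _ ⟨w, hw, rfl⟩
            exact Fin.ext ((model.act_ev w (letters7_spec (hl w hw)) _).trans (hfix w hw).symm)
          · intro a c _ _ ha hc
            rw [map_mul, Equiv.Perm.mul_apply, hc, ha]
          · intro a _ ha
            rw [map_inv, Equiv.Perm.inv_eq_iff_eq, ha]
      have himg' : ∀ c, c < L.pts.length → (model.act (u c) ⟨L.b, hb⟩ : ℕ) = L.pts.getD c 0 := by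
        intro c hc
        rw [model.act_ev _ (letters7_spec (hUl _ ?_)) _, himg c hc]
        rw [List.getD_eq_getElem _ _ (by rw [hlen]; exact hc)]
        exact List.getElem_mem _
      let f : Fin L.pts.length × Kh ls → Kh (L :: ls) := fun p =>
        ⟨u p.1 * p.2, mul_mem (hu _ p.1.2) (hle p.2.2)⟩
      have hf : Function.Bijective f := by
        constructor
        · rintro ⟨c, k⟩ ⟨c', k'⟩ e
          have e' : u c * k = u c' * k' := congrArg Subtype.val e
          have e2 := congrArg (fun y => (model.act y ⟨L.b, hb⟩ : ℕ)) e'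
          simp only [map_mul, Equiv.Perm.mul_apply, hKfix _ k.2, hKfix _ k'.2,
            himg' _ c.2, himg' _ c'.2] at e2
          have hcc : (c : ℕ) = c' := by
            rw [List.getD_eq_getElem _ _ c.2, List.getD_eq_getElem _ _ c'.2] at e2
            exact hnd.getElem_inj_iff.1 e2
          obtain rfl : c = c' := Fin.ext hcc
          rw [show k = k' from Subtype.ext (mul_left_cancel e')]
        · rintro ⟨x, hx⟩
          obtain ⟨c, hc, k, hk, rfl⟩ := hcov x hx
          exact ⟨⟨⟨c, hc⟩, ⟨k, hk⟩⟩, rfl⟩
      refine ⟨?_, fun xs => ?_⟩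
      · rw [← Nat.card_congr (Equiv.ofBijective f hf), Nat.card_prod, Nat.card_fin, hcard]
        rfl
      · cases xs with
        | nil =>
          show ev SuzOrder.gen [] ∈ _
          exact one_mem _
        | cons x xs =>
          show ev SuzOrder.gen (kw ls xs ++ L.U.getD x []) ∈ _
          rw [ev_append]
          refine mul_mem ?_ (hle (hkw xs))
          by_cases hx : x < L.pts.length
          · exact hu x hx
          · rw [List.getD_eq_default _ _ (by omega)]
            show ev SuzOrder.gen [] ∈ _
            exact one_mem _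

end H92.SuzU
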