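/-
Generated data: a chain for a subgroup of index 22880 of the Suzuki group.
-/
import Cfsg.Agent.H92.SuzU.Chain

set_option autoImplicit false
set_option maxRecDepth 100000

namespace H92.SuzU

/-- A level. -/
def lvl0 : Lvl where
  b := 0
  pts := [0,1,2,3,4,5,6,7,8,9,10,12,11,13,14,16,18,17,23,19,24,22,20,25,26,28,30,31,34,32,36,43,37,38,35,42,40,45,46,44,48,51,53,54,56,61,64,63,65,58,59,73,69,70,68,77,74,80,79,75,87,88,91,104,100,105,103,94,101,107,95,97,113,110,115,111,123,126,120,134,136,139,150,159,156,151,149,162,161,157,153,166,165,144,147,174,177,171,189,190,188,194,195,196,184,183,208,212,211,216,232,229,246,242,235,234,230,250,238,256,254,222,223,227,268,269,267,273,274,263,262,294,295,297,292,303,305,306,286,284,352,345,347,392,390,440,435,436,451,454,428,424,425,511,575,572,634,629,626,625,839,915]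
  U := [[],[6],[6,1],[6,1,0],[6,1,2],[6,1,5],[6,1,0,1],[6,1,0,2],[6,1,2,3],[6,1,2,5],[6,1,0,1,2],[6,1,0,2,1],[6,1,0,2,3],[6,1,2,3,2],[6,1,2,3,5],[6,1,2,5,1],[6,1,0,1,2,1],[6,1,0,1,2,3],[6,1,0,2,1,0],[6,1,0,2,1,3],[6,1,0,2,1,5],[6,1,0,2,1,6],[6,1,0,2,3,2],[6,1,2,3,2,1],[6,1,2,3,2,5],[6,1,2,3,5,1],[6,1,2,5,1,6],[6,1,0,1,2,1,3],[6,1,0,1,2,1,5],[6,1,0,1,2,3,2],[6,1,0,2,1,0,3],[6,1,0,2,1,0,5],[6,1,0,2,1,3,2],[6,1,0,2,1,3,5],[6,1,0,2,1,3,6],[6,1,0,2,1,6,5],[6,1,0,2,3,2,1],[6,1,2,3,2,1,0],[6,1,2,3,2,1,5],[6,1,2,3,2,1,6],[6,1,2,3,2,5,1],[6,1,2,3,5,1,2],[6,1,0,1,2,1,3,2],[6,1,0,1,2,1,3,5],[6,1,0,1,2,3,2,1],[6,1,0,2,1,0,3,5],[6,1,0,2,1,3,2,1],[6,1,0,2,1,3,2,3],[6,1,0,2,1,3,2,5],[6,1,0,2,1,3,2,6],[6,1,0,2,1,3,6,5],[6,1,0,2,1,6,5,1],[6,1,0,2,3,2,1,0],[6,1,0,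2,3,2,1,5],[6,1,0,2,3,2,1,6],[6,1,2,3,2,1,0,5],[6,1,2,3,2,1,0,6],[6,1,2,3,2,1,5,1],[6,1,2,3,2,1,5,6],[6,1,2,3,2,1,6,5],[6,1,0,1,2,1,3,2,1],[6,1,0,1,2,1,3,2,5],[6,1,0,1,2,3,2,1,5],[6,1,0,2,1,3,2,1,0],[6,1,0,2,1,3,2,1,3],[6,1,0,2,1,3,2,1,5],[6,1,0,2,1,3,2,1,6],[6,1,0,2,1,3,2,3,2],[6,1,0,2,1,3,2,3,5],[6,1,0,2,1,3,2,5,1],[6,1,0,2,1,3,2,6,5],[6,1,0,2,1,3,6,5,1],[6,1,0,2,3,2,1,0,5],[6,1,0,2,3,2,1,0,6],[6,1,0,2,3,2,1,5,6],[6,1,0,2,3,2,1,6,5],[6,1,2,3,2,1,0,5,1],[6,1,2,3,2,1,5,6,1],[6,1,2,3,2,1,6,5,1],[6,1,0,1,2,1,3,2,1,5],[6,1,0,1,2,1,3,2,5,1],[6,1,0,1,2,3,2,1,5,6],[6,1,0,2,1,3,2,1,0,1],[6,1,0,2,1,3,2,1,0,5],[6,1,0,2,1,3,2,1,0,6],[6,1,0,2,1,3,2,1,3,5],[6,1,0,2,1,3,2,1,3,6],[6,1,0,2,1,3,2,1,5,1],[6,1,0,2,1,3,2,1,5,6],[6,1,0,2,1,3,2,1,6,5],[6,1,0,2,1,3,2,3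,5,1],[6,1,0,2,1,3,2,5,1,0],[6,1,0,2,1,3,2,5,1,6],[6,1,0,2,1,3,2,6,5,1],[6,1,0,2,1,3,6,5,1,2],[6,1,0,2,3,2,1,0,5,1],[6,1,0,2,3,2,1,5,6,1],[6,1,0,2,3,2,1,6,5,1],[6,1,2,3,2,1,0,5,1,0],[6,1,2,3,2,1,0,5,1,2],[6,1,2,3,2,1,0,5,1,6],[6,1,2,3,2,1,5,6,1,0],[6,1,2,3,2,1,5,6,1,2],[6,1,2,3,2,1,5,6,1,5],[6,1,2,3,2,1,6,5,1,2],[6,1,2,3,2,1,6,5,1,6],[6,1,0,1,2,1,3,2,1,5,1],[6,1,0,1,2,1,3,2,5,1,0],[6,1,0,1,2,1,3,2,5,1,6],[6,1,0,1,2,3,2,1,5,6,1],[6,1,0,2,1,3,2,1,0,1,5],[6,1,0,2,1,3,2,1,0,1,6],[6,1,0,2,1,3,2,1,0,5,1],[6,1,0,2,1,3,2,1,0,6,1],[6,1,0,2,1,3,2,1,3,5,1],[6,1,0,2,1,3,2,1,3,5,6],[6,1,0,2,1,3,2,1,3,6,5],[6,1,0,2,1,3,2,1,5,1,0],[6,1,0,2,1,3,2,3,5,1,2],[6,1,0,2,1,3,2,5,1,0,1],[6,1,0,2,1,3,2,5,1,6,5],[6,1,0,2,1,3,2,6,5,1,0],[6,1,0,2,1,3,2,6,5,1,2],[6,1,0,2,1,3,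6,5,1,2,3],[6,1,0,2,3,2,1,0,5,1,0],[6,1,0,2,3,2,1,0,5,1,2],[6,1,0,2,3,2,1,0,5,1,6],[6,1,0,2,3,2,1,5,6,1,0],[6,1,0,2,3,2,1,5,6,1,2],[6,1,0,2,3,2,1,6,5,1,2],[6,1,0,2,3,2,1,6,5,1,6],[6,1,2,3,2,1,0,5,1,0,1],[6,1,2,3,2,1,0,5,1,0,2],[6,1,2,3,2,1,0,5,1,2,3],[6,1,2,3,2,1,0,5,1,2,6],[6,1,2,3,2,1,5,6,1,0,2],[6,1,2,3,2,1,5,6,1,2,3],[6,1,2,3,2,1,5,6,1,2,5],[6,1,2,3,2,1,6,5,1,2,3],[6,1,2,3,2,1,6,5,1,2,6],[6,1,0,2,1,3,2,1,0,1,6,1],[6,1,0,2,1,3,2,6,5,1,0,2],[6,1,0,2,1,3,2,6,5,1,2,3],[6,1,0,2,3,2,1,6,5,1,2,3],[6,1,0,2,3,2,1,6,5,1,2,6],[6,1,2,3,2,1,0,5,1,0,2,3],[6,1,2,3,2,1,0,5,1,2,3,6],[6,1,2,3,2,1,0,5,1,2,6,1],[6,1,2,3,2,1,5,6,1,0,2,3],[6,1,2,3,2,1,5,6,1,2,3,5],[6,1,2,3,2,1,6,5,1,2,3,2],[6,1,2,3,2,1,6,5,1,2,3,6],[6,1,2,3,2,1,6,5,1,2,6,1],[6,1,0,2,1,3,2,6,5,1,0,2,3],[6,1,0,2,3,2,1,6,5,1,2,3,2],[6,1,0,2,3,2,1,6,5,1,2,3,6],[6,1,2,3,2,1,0,5,1,2,3,6,1],[6,1,2,3,2,1,6,5,1,2,3,2,1],[6,1,2,3,2,1,6,5,1,2,3,2,6],[6,1,2,3,2,1,6,5,1,2,3,6,1],[6,1,0,2,3,2,1,6,5,1,2,3,2,1],[6,1,2,3,2,1,6,5,1,2,3,2,1,5]]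
  gens := [[0],[1],[2],[3],[5],[6]]
  eqs := [(0,[25,0,0]),(0,[0,0,4]),(0,[0,0,19]),(0,[14,0,0]),(0,[34,0,0]),(1,[0,0,0]),(1,[25,0,0]),(2,[0,0,0]),(1,[0,0,19]),(1,[14,0,0]),(1,[1,0,0]),(0,[0,0,0]),(3,[0,0,0]),(1,[0,0,0]),(4,[0,0,0]),(2,[14,0,0]),(5,[0,0,0]),(2,[0,0,4]),(2,[0,0,0]),(6,[0,0,0]),(7,[0,0,0]),(3,[14,0,0]),(6,[18,31,17]),(3,[0,0,4]),(7,[0,0,0]),(4,[0,0,19]),(2,[0,0,0]),(8,[0,0,0]),(9,[0,0,0]),(4,[0,0,4]),(6,[18,31,17]),(5,[1,0,0]),(9,[0,0,0]),(5,[14,0,0]),(2,[0,0,0]),(6,[18,31,7]),(5,[11,31,7]),(3,[0,0,0]),(10,[0,0,0]),(6,[14,0,0]),(3,[11,31,7]),(5,[38,31,7]),(4,[0,0,0]),(11,[0,0,0]),(3,[0,0,0]),(12,[0,0,0]),(10,[18,31,17]),(7,[0,0,4]),(12,[0,0,0]),(8,[0,0,19]),(13,[0,0,0]),(4,[0,0,0]),(14,[0,0,0]),(8,[0,0,4]),(10,[18,31,17]),(15,[0,0,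0]),(5,[0,0,0]),(14,[0,0,0]),(4,[0,0,0]),(10,[18,31,7]),(9,[11,31,7]),(16,[0,0,0]),(6,[0,0,0]),(17,[0,0,0]),(7,[11,31,7]),(9,[38,31,7]),(18,[0,0,0]),(7,[0,0,0]),(16,[0,0,0]),(19,[0,0,0]),(20,[0,0,0]),(21,[0,0,0]),(8,[0,0,0]),(19,[0,0,0]),(22,[0,0,0]),(7,[0,0,0]),(17,[18,31,17]),(12,[0,0,4]),(22,[0,0,0]),(23,[0,0,0]),(8,[0,0,0]),(22,[14,0,0]),(24,[0,0,0]),(13,[0,0,4]),(17,[18,31,17]),(25,[0,0,0]),(24,[0,0,0]),(9,[0,0,0]),(8,[0,0,0]),(17,[18,31,7]),(15,[0,0,5]),(9,[0,0,0]),(15,[1,0,0]),(25,[0,0,0]),(15,[0,0,19]),(26,[0,0,0]),(21,[18,31,10]),(10,[0,0,0]),(11,[0,0,0]),(27,[0,0,0]),(28,[0,0,0]),(18,[18,31,10]),(14,[11,31,7]),(27,[0,0,0]),(29,[0,0,0]),(10,[0,0,0]),(12,[11,31,7]),(14,[38,31,7]),(11,[0,0,0]),(26,[0,0,15]),(21,[18,31,10]),(30,[0,0,0]),(31,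[0,0,0]),(16,[18,31,10]),(30,[0,0,0]),(12,[0,0,0]),(32,[0,0,0]),(11,[0,0,0]),(33,[0,0,0]),(34,[0,0,0]),(31,[0,0,0]),(28,[18,31,17]),(28,[0,0,0]),(33,[0,0,0]),(11,[0,0,0]),(28,[18,31,10]),(16,[18,31,10]),(21,[0,0,4]),(18,[18,31,10]),(34,[0,0,0]),(35,[0,0,0]),(11,[0,0,0]),(13,[0,0,0]),(36,[0,0,0]),(12,[0,0,0]),(13,[14,0,0]),(29,[18,31,17]),(22,[0,0,4]),(37,[0,0,0]),(13,[0,0,0]),(23,[0,0,19]),(36,[14,0,0]),(38,[0,0,0]),(39,[0,0,0]),(29,[18,31,17]),(40,[0,0,0]),(14,[0,0,0]),(29,[2,31,17]),(13,[0,0,0]),(29,[18,31,7]),(25,[0,0,5]),(14,[0,0,0]),(41,[0,0,0]),(15,[0,0,0]),(25,[0,0,19]),(41,[1,29,19]),(26,[0,0,5]),(18,[0,0,9]),(26,[1,0,0]),(41,[1,29,19]),(26,[0,0,22]),(15,[0,0,0]),(34,[18,31,10]),(17,[0,0,0]),(42,[0,0,0]),(16,[0,0,0]),(43,[0,0,0]),(30,[18,3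1,10]),(35,[18,31,10]),(20,[11,31,7]),(20,[0,0,0]),(43,[0,0,0]),(16,[0,0,0]),(20,[18,31,10]),(24,[11,31,7]),(44,[0,0,0]),(17,[0,0,0]),(24,[42,31,7]),(22,[11,31,7]),(24,[38,31,7]),(19,[0,0,0]),(41,[1,29,3]),(40,[1,29,3]),(18,[0,0,0]),(45,[0,0,0]),(27,[18,31,10]),(20,[0,0,0]),(31,[0,0,22]),(35,[18,31,10]),(45,[0,0,0]),(18,[0,0,0]),(35,[0,0,0]),(40,[1,29,3]),(46,[0,0,0]),(19,[0,0,0]),(47,[0,0,0]),(48,[0,0,0]),(49,[0,0,0]),(45,[0,0,0]),(43,[18,31,17]),(48,[0,0,0]),(20,[0,0,0]),(19,[0,0,0]),(43,[18,31,10]),(27,[18,31,10]),(34,[0,0,4]),(49,[0,0,0]),(21,[0,0,0]),(50,[0,0,0]),(19,[0,0,0]),(28,[18,31,10]),(51,[0,0,0]),(31,[18,31,10]),(50,[0,0,0]),(21,[0,0,0]),(31,[0,0,0]),(52,[0,0,0]),(22,[0,0,0]),(46,[0,0,0]),(23,[14,0,0]),(53,[0,0,0]),(54,[0,0,0]),(23,[0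,0,0]),(49,[14,24,20]),(37,[0,0,19]),(52,[14,0,0]),(55,[0,0,0]),(56,[0,0,0]),(55,[0,0,0]),(57,[0,0,0]),(38,[0,0,19]),(53,[14,0,0]),(23,[0,0,0]),(58,[0,0,0]),(56,[0,0,0]),(39,[0,0,4]),(39,[0,0,19]),(54,[14,0,0]),(59,[0,0,0]),(23,[0,0,0]),(32,[25,49,2]),(24,[0,0,0]),(30,[25,49,2]),(44,[2,31,17]),(57,[0,0,0]),(42,[12,64,2]),(41,[0,0,5]),(30,[25,49,2]),(25,[0,0,0]),(26,[1,29,19]),(41,[0,0,19]),(25,[1,29,19]),(49,[18,31,10]),(60,[0,0,0]),(27,[0,0,0]),(60,[5,72,20]),(61,[0,0,0]),(40,[11,14,17]),(50,[18,31,10]),(33,[11,31,7]),(61,[0,0,0]),(28,[0,0,0]),(27,[0,0,0]),(33,[18,31,10]),(47,[5,72,20]),(29,[0,0,0]),(60,[0,0,0]),(40,[42,31,7]),(62,[0,0,0]),(60,[10,65,20]),(33,[0,0,0]),(45,[0,0,22]),(57,[1,29,3]),(31,[0,0,0]),(30,[0,0,0]),(50,[0,0,0]),(63,[0,0,0])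,(32,[0,0,0]),(36,[0,0,0]),(64,[0,0,0]),(65,[0,0,0]),(66,[0,0,0]),(44,[5,72,20]),(64,[0,0,0]),(67,[0,0,0]),(32,[0,0,0]),(68,[0,0,0]),(67,[18,31,10]),(57,[1,29,3]),(69,[0,0,0]),(33,[0,0,0]),(68,[0,0,0]),(32,[0,0,0]),(61,[18,31,10]),(42,[18,31,10]),(37,[25,49,4]),(34,[0,0,0]),(67,[18,31,10]),(70,[0,0,0]),(32,[0,0,0]),(43,[18,31,10]),(71,[0,0,0]),(70,[0,0,0]),(35,[0,0,0]),(34,[0,0,0]),(45,[0,0,0]),(51,[0,0,21]),(35,[0,0,0]),(51,[13,0,20]),(71,[0,0,0]),(51,[0,0,4]),(51,[0,0,22]),(36,[0,0,0]),(67,[12,32,10]),(63,[0,0,0]),(37,[14,0,0]),(72,[0,0,0]),(73,[0,0,0]),(72,[0,0,0]),(62,[18,31,17]),(65,[0,0,0]),(38,[14,0,0]),(36,[0,0,0]),(74,[0,0,0]),(73,[0,0,0]),(54,[0,0,4]),(66,[0,0,0]),(39,[14,0,0]),(75,[0,0,0]),(36,[0,0,0]),(38,[0,0,0]),(76,[0,0,0]),(55,[0,0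,19]),(72,[14,0,0]),(37,[0,0,0]),(59,[0,0,0]),(39,[0,0,0]),(66,[14,24,20]),(56,[0,0,19]),(73,[14,0,0]),(58,[0,0,0]),(37,[0,0,0]),(48,[25,49,2]),(38,[0,0,0]),(45,[25,49,2]),(62,[2,31,17]),(40,[0,0,0]),(70,[25,49,2]),(59,[0,0,0]),(77,[0,0,0]),(58,[0,0,19]),(74,[14,0,0]),(56,[0,0,0]),(38,[0,0,0]),(58,[0,0,0]),(78,[0,0,0]),(59,[0,0,19]),(75,[14,0,0]),(39,[0,0,0]),(55,[0,0,0]),(67,[5,72,20]),(42,[0,0,0]),(44,[0,0,0]),(42,[5,72,20]),(79,[0,0,0]),(44,[10,65,20]),(70,[18,31,10]),(80,[0,0,0]),(43,[0,0,0]),(79,[5,72,20]),(42,[0,0,0]),(48,[18,31,10]),(68,[5,72,20]),(53,[11,31,7]),(79,[0,0,0]),(57,[42,31,7]),(44,[0,0,0]),(81,[0,0,0]),(46,[0,0,0]),(82,[0,0,0]),(52,[0,0,0]),(82,[12,32,20]),(83,[0,0,0]),(84,[0,0,0]),(82,[12,32,20]),(47,[0,0,0]),(82,[5,78,13]),(4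6,[0,0,0]),(85,[0,0,0]),(86,[0,0,0]),(83,[0,0,0]),(87,[0,0,0]),(53,[0,0,0]),(85,[0,0,0]),(46,[0,0,0]),(88,[0,0,0]),(84,[0,0,0]),(56,[25,49,4]),(54,[0,0,0]),(86,[0,0,0]),(89,[0,0,0]),(46,[0,0,0]),(60,[5,72,20]),(52,[5,78,13]),(47,[0,0,0]),(49,[18,31,10]),(81,[14,47,20]),(47,[18,31,10]),(62,[5,72,20]),(90,[0,0,0]),(81,[14,47,20]),(48,[0,0,0]),(47,[0,0,0]),(79,[14,47,20]),(91,[0,0,0]),(48,[0,0,0]),(80,[18,31,17]),(90,[0,0,0]),(87,[0,0,0]),(92,[0,0,0]),(61,[18,31,10]),(93,[0,0,0]),(50,[0,0,0]),(81,[5,72,20]),(49,[0,0,0]),(57,[1,29,3]),(71,[0,0,21]),(50,[0,0,0]),(94,[0,0,0]),(51,[0,0,0]),(71,[0,0,4]),(71,[0,0,22]),(53,[0,0,0]),(95,[0,0,0]),(83,[0,0,0]),(55,[14,0,0]),(52,[0,0,0]),(75,[0,0,0]),(54,[0,0,0]),(86,[25,84,10]),(84,[0,0,0]),(56,[14,0,0]),(74,[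0,0,0]),(52,[0,0,0]),(75,[0,0,0]),(96,[0,0,0]),(88,[0,0,0]),(58,[14,0,0]),(73,[0,0,0]),(53,[0,0,0]),(74,[0,0,0]),(97,[0,0,0]),(89,[0,0,0]),(59,[14,0,0]),(54,[0,0,0]),(72,[0,0,0]),(98,[0,0,0]),(55,[0,0,0]),(99,[0,0,0]),(95,[14,0,0]),(93,[14,24,20]),(100,[0,0,0]),(101,[0,0,0]),(58,[0,0,0]),(102,[0,0,0]),(96,[14,0,0]),(103,[0,0,0]),(93,[25,49,2]),(97,[14,24,18]),(59,[0,0,0]),(104,[0,0,0]),(97,[14,0,0]),(78,[0,0,4]),(105,[0,0,0]),(81,[10,65,20]),(106,[0,0,0]),(62,[0,0,0]),(61,[5,72,20]),(60,[0,0,0]),(68,[17,64,0]),(107,[0,0,0]),(61,[0,0,0]),(69,[11,31,7]),(106,[5,72,20]),(106,[0,0,0]),(108,[0,0,0]),(79,[10,65,20]),(109,[0,0,0]),(68,[17,64,0]),(70,[5,72,20]),(67,[17,64,0]),(62,[0,0,0]),(64,[12,32,20]),(63,[0,0,0]),(64,[12,32,10]),(63,[12,32,20]),(110,[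0,0,0]),(111,[0,0,0]),(65,[0,0,0]),(112,[0,0,0]),(72,[0,0,0]),(110,[12,32,20]),(63,[0,0,0]),(89,[0,0,0]),(66,[0,0,0]),(113,[0,0,0]),(73,[0,0,0]),(111,[12,32,20]),(88,[0,0,0]),(63,[0,0,0]),(110,[12,32,20]),(114,[0,0,0]),(110,[5,78,13]),(65,[0,0,0]),(64,[0,0,0]),(115,[0,0,0]),(111,[12,32,20]),(73,[12,49,4]),(111,[5,78,13]),(66,[0,0,0]),(116,[0,0,0]),(64,[0,0,0]),(117,[0,0,0]),(65,[0,0,0]),(106,[18,31,17]),(114,[0,0,0]),(69,[0,0,0]),(114,[27,60,15]),(89,[0,0,0]),(115,[27,60,15]),(74,[0,0,0]),(115,[0,0,0]),(84,[0,0,0]),(65,[0,0,0]),(88,[0,0,0]),(103,[25,49,4]),(75,[0,0,0]),(116,[0,0,0]),(66,[0,0,0]),(83,[0,0,0]),(92,[27,60,15]),(68,[0,0,0]),(118,[0,0,0]),(69,[0,0,0]),(114,[0,0,0]),(91,[27,60,15]),(69,[0,0,0]),(119,[0,0,0]),(107,[18,31,17]),(92,[27,60,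15]),(117,[0,0,0]),(90,[27,60,15]),(90,[27,60,15]),(108,[18,31,10]),(108,[18,31,17]),(91,[27,60,15]),(120,[0,0,0]),(69,[0,0,0]),(121,[0,0,0]),(70,[0,0,0]),(122,[0,0,0]),(109,[5,72,20]),(76,[25,49,4]),(77,[1,29,3]),(94,[0,0,21]),(122,[0,0,0]),(71,[0,0,0]),(123,[0,0,0]),(94,[0,0,4]),(94,[0,0,22]),(124,[0,0,0]),(72,[0,0,0]),(125,[0,0,0]),(76,[14,0,0]),(109,[2,18,13]),(126,[0,0,0]),(127,[0,0,0]),(74,[0,0,0]),(128,[0,0,0]),(77,[14,0,0]),(128,[15,29,20]),(109,[18,31,17]),(78,[14,24,21]),(75,[0,0,0]),(129,[0,0,0]),(78,[14,0,0]),(97,[0,0,4]),(130,[0,0,0]),(76,[0,0,0]),(131,[0,0,0]),(132,[0,0,0]),(124,[14,0,0]),(121,[14,24,20]),(103,[14,24,18]),(132,[0,0,0]),(99,[0,0,19]),(76,[0,0,0]),(133,[0,0,0]),(122,[14,24,20]),(134,[0,0,0]),(103,[14,24,18]),(105,[0,0,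0]),(134,[0,0,0]),(126,[14,0,0]),(101,[14,24,18]),(76,[0,0,0]),(77,[0,0,0]),(127,[14,24,18]),(135,[0,0,0]),(127,[14,0,0]),(100,[14,24,21]),(121,[25,49,2]),(135,[0,0,0]),(102,[0,0,19]),(77,[0,0,0]),(136,[0,0,0]),(137,[0,0,0]),(122,[25,49,2]),(100,[14,24,21]),(89,[14,24,20]),(137,[0,0,0]),(128,[14,19,19]),(77,[0,0,0]),(98,[14,24,21]),(129,[14,24,18]),(104,[0,0,19]),(78,[0,0,0]),(138,[0,0,0]),(104,[0,0,4]),(139,[0,0,0]),(130,[14,24,18]),(100,[0,0,0]),(139,[0,0,0]),(130,[14,0,0]),(130,[14,24,21]),(78,[0,0,0]),(112,[23,64,10]),(79,[0,0,0]),(87,[11,31,7]),(80,[5,72,20]),(80,[0,0,0]),(119,[21,64,10]),(80,[0,0,0]),(110,[23,64,10]),(91,[11,31,7]),(112,[46,62,5]),(112,[23,64,10]),(118,[30,65,6]),(118,[30,65,6]),(92,[18,31,10]),(92,[11,31,7]),(119,[28,62,0])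,(131,[17,6,4]),(80,[0,0,0]),(125,[32,67,9]),(81,[0,0,0]),(124,[32,67,9]),(93,[5,72,20]),(95,[17,10,0]),(96,[11,31,7]),(85,[12,32,20]),(107,[33,82,21]),(85,[12,32,10]),(83,[12,32,20]),(82,[0,0,0]),(116,[12,32,20]),(86,[12,32,20]),(140,[0,0,0]),(86,[12,32,10]),(84,[12,32,20]),(115,[12,32,20]),(82,[0,0,0]),(106,[33,82,21]),(83,[0,0,0]),(117,[25,49,14]),(107,[7,60,5]),(107,[33,82,21]),(131,[43,29,3]),(113,[2,49,19]),(84,[0,0,0]),(140,[2,49,13]),(140,[12,32,20]),(140,[15,29,0]),(140,[0,0,0]),(120,[27,60,15]),(85,[0,0,0]),(119,[9,31,18]),(87,[0,0,0]),(90,[0,0,0]),(87,[27,60,15]),(116,[0,0,0]),(88,[27,60,15]),(116,[18,5,0]),(88,[0,0,0]),(111,[12,32,20]),(85,[0,0,0]),(115,[0,0,0]),(128,[28,89,20]),(115,[18,5,0]),(89,[0,0,0]),(86,[0,0,0]),(110,[12,32,20])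,(87,[0,0,0]),(125,[1,29,15]),(112,[1,29,15]),(120,[27,60,15]),(91,[0,0,0]),(120,[0,0,0]),(108,[31,65,21]),(124,[48,15,11]),(90,[0,0,0]),(131,[6,15,11]),(119,[9,31,18]),(107,[31,65,21]),(131,[1,29,3]),(91,[0,0,0]),(114,[7,60,0]),(108,[27,60,19]),(118,[7,60,0]),(106,[42,79,6]),(114,[27,60,15]),(121,[2,49,19]),(131,[2,49,7]),(117,[27,60,15]),(92,[0,0,0]),(117,[0,0,0]),(93,[0,0,0]),(120,[2,49,19]),(141,[0,0,0]),(125,[53,66,14]),(98,[25,49,4]),(101,[1,29,3]),(141,[0,0,0]),(94,[0,0,0]),(93,[0,0,0]),(142,[0,0,0]),(99,[25,49,4]),(102,[1,29,3]),(123,[0,0,21]),(142,[0,0,0]),(123,[13,0,7]),(94,[0,0,0]),(123,[0,0,4]),(123,[0,0,22]),(95,[0,0,0]),(118,[12,32,8]),(109,[2,18,16]),(98,[14,0,0]),(125,[0,0,22]),(128,[14,24,3]),(109,[2,18,16]),(117,[25,49,14]),(95,[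0,0,0]),(121,[25,84,8]),(124,[0,0,22]),(127,[14,24,3]),(128,[14,24,3]),(130,[0,0,0]),(127,[14,24,3]),(100,[14,0,0]),(127,[14,24,21]),(95,[0,0,0]),(96,[0,0,0]),(101,[14,24,21]),(126,[15,29,16]),(101,[14,0,0]),(126,[14,24,18]),(125,[15,29,16]),(126,[15,29,16]),(116,[6,60,15]),(96,[0,0,0]),(103,[31,29,20]),(96,[15,29,20]),(124,[15,29,16]),(104,[14,24,21]),(137,[25,49,4]),(97,[0,0,0]),(143,[0,0,0]),(129,[0,0,4]),(144,[0,0,0]),(105,[14,24,21]),(126,[0,0,0]),(144,[0,0,0]),(105,[14,0,0]),(105,[14,24,18]),(97,[0,0,0]),(119,[25,49,2]),(98,[0,0,0]),(120,[1,29,2]),(118,[6,14,15]),(108,[35,72,19]),(112,[25,49,9]),(99,[0,0,0]),(141,[15,29,5]),(98,[0,0,0]),(145,[0,0,0]),(141,[14,24,20]),(137,[14,24,18]),(145,[0,0,0]),(133,[0,0,19]),(142,[6,84,3]),(99,[0,0,0]),(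142,[14,24,20]),(146,[0,0,0]),(137,[14,24,18]),(147,[0,0,0]),(100,[0,0,0]),(146,[0,0,0]),(135,[14,24,18]),(99,[0,0,0]),(102,[0,0,0]),(144,[0,0,12]),(101,[0,0,0]),(148,[0,0,0]),(134,[14,24,21]),(141,[25,49,2]),(148,[0,0,0]),(136,[0,0,19]),(146,[14,55,21]),(102,[0,0,0]),(149,[0,0,0]),(142,[25,49,2]),(134,[14,24,21]),(129,[14,24,20]),(103,[0,0,0]),(149,[0,0,0]),(102,[0,0,0]),(132,[14,24,21]),(143,[14,24,18]),(138,[0,0,19]),(150,[0,0,0]),(104,[0,0,0]),(138,[0,0,4]),(151,[0,0,0]),(144,[14,24,18]),(152,[0,0,0]),(105,[0,0,0]),(151,[0,0,0]),(144,[14,24,21]),(104,[0,0,0]),(140,[2,49,19]),(111,[0,0,0]),(113,[2,49,13]),(113,[12,32,20]),(113,[1,29,7]),(113,[0,0,0]),(122,[0,0,0]),(132,[1,29,13]),(121,[0,0,0]),(153,[0,0,0]),(132,[25,49,4]),(135,[1,29,3]),(153,[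0,0,0]),(123,[0,0,0]),(133,[27,66,14]),(122,[0,0,0]),(133,[25,49,4]),(136,[1,29,3]),(138,[14,24,21]),(149,[25,49,4]),(154,[0,0,0]),(129,[0,0,0]),(143,[0,0,4]),(155,[0,0,0]),(139,[14,24,21]),(135,[0,0,11]),(130,[0,0,0]),(155,[0,0,0]),(139,[14,24,18]),(129,[0,0,0]),(133,[0,0,0]),(153,[15,29,5]),(153,[6,84,3]),(132,[0,0,0]),(153,[14,24,20]),(149,[14,24,18]),(149,[14,24,18]),(156,[0,0,0]),(136,[31,41,9]),(134,[0,0,0]),(148,[14,24,18]),(133,[0,0,0]),(147,[25,49,10]),(134,[0,0,0]),(152,[0,0,0]),(156,[0,0,0]),(152,[15,29,17]),(147,[0,0,19]),(136,[0,0,0]),(155,[0,0,12]),(149,[0,19,19]),(135,[0,0,0]),(146,[14,24,21]),(153,[25,49,2]),(146,[14,24,21]),(143,[14,24,20]),(148,[0,19,19]),(137,[0,0,0]),(136,[0,0,0]),(145,[14,24,21]),(154,[14,24,18]),(157,[0,0,0])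,(138,[0,0,0]),(150,[0,24,18]),(150,[0,0,4]),(158,[0,0,0]),(155,[14,24,18]),(159,[0,0,0]),(158,[0,0,0]),(139,[0,0,0]),(155,[14,24,21]),(138,[0,0,0]),(152,[25,49,10]),(139,[0,0,0]),(147,[0,0,0]),(159,[0,0,0]),(147,[15,29,17]),(152,[0,0,19]),(142,[0,0,0]),(145,[1,29,13]),(145,[27,66,14]),(141,[0,0,0]),(145,[25,49,4]),(148,[1,29,3]),(150,[14,24,21]),(160,[0,0,0]),(143,[0,0,0]),(154,[0,24,21]),(154,[0,0,4]),(160,[14,57,22]),(151,[14,24,21]),(148,[0,0,11]),(160,[14,57,22]),(144,[0,0,0]),(151,[14,24,18]),(143,[0,0,0]),(156,[25,49,10]),(146,[0,0,0]),(156,[29,5,20]),(147,[0,0,0]),(159,[15,29,17]),(156,[0,0,19]),(157,[0,49,1]),(150,[0,0,0]),(157,[0,0,19]),(157,[0,24,18]),(161,[0,0,0]),(157,[30,5,20]),(160,[39,64,23]),(158,[30,5,20]),(151,[0,0,0]),(158,[0,24,18]),(160,[39,64,16]),(150,[0,0,0]),(159,[25,49,10]),(151,[0,0,0]),(159,[30,5,20]),(152,[0,0,0]),(156,[15,29,17]),(159,[0,0,19]),(158,[51,18,18]),(154,[0,0,0]),(155,[39,78,0]),(160,[0,24,21]),(158,[53,18,18]),(154,[39,78,0]),(161,[0,49,1]),(161,[0,0,4]),(161,[0,0,19]),(161,[0,24,18]),(157,[0,0,0]),(161,[30,73,5])]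
  tree := [(0,0),(0,5),(1,1),(2,0),(2,2),(2,4),(3,1),(3,2),(4,3),(4,4),(6,2),(7,1),(7,3),(8,2),(8,4),(9,1),(10,1),(10,3),(11,0),(11,3),(11,4),(11,5),(12,2),(13,1),(13,4),(14,1),(15,5),(16,3),(16,4),(17,2),(18,3),(18,4),(19,2),(19,4),(19,5),(21,4),(22,1),(23,0),(23,4),(23,5),(24,1),(25,2),(27,2),(27,4),(29,1),(30,4),(32,1),(32,3),(32,4),(32,5),(34,4),(35,1),(36,0),(36,4),(36,5),(37,4),(37,5),(38,1),(38,5),(39,4),(42,1),(42,4),(44,4),(46,0),(46,3),(46,4),(46,5),(47,2),(47,4),(48,1),(49,4),(50,1),(52,4),(52,5),(53,5),(54,4),(55,1),(58,1),(59,1),(60,4),(61,1),(62,5),(63,1),(63,4),(63,5),(64,4),(64,5),(65,1),(65,5),(66,4),(68,1),(69,0),(69,5),(70,1),(71,2),(72,1),(74,1),(75,1),(76,0),(76,2),(76,5),(77,0),(77,2),(77,4),(78,2),(78,5),(79,1),(80,0),(80,5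),(81,1),(82,4),(82,5),(83,1),(84,1),(85,1),(85,5),(86,4),(87,0),(90,2),(91,1),(92,4),(93,0),(93,2),(94,3),(95,0),(95,2),(95,5),(96,0),(96,2),(97,2),(97,5),(98,1),(98,2),(99,3),(99,5),(101,2),(102,3),(102,4),(104,3),(104,5),(111,1),(121,2),(122,3),(129,3),(129,5),(132,3),(133,5),(134,1),(135,3),(136,4),(138,2),(138,5),(139,1),(141,3),(143,2),(143,5),(146,1),(150,1),(150,5),(151,1),(154,1),(157,4)]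
  nest := [[0,4],[1,3,2]]

/-- A level. -/
def lvl1 : Lvl where
  b := 44
  pts := [44,79,103,274,161,156,273,111,115,157,242,267,110,184,68,195,177,352,149,284,263,428,292,435,234,74,625,451,575,629,634,305,425,230,75,229,183,454,262,572,915,286,188,126,436,626,306,171,194,392,120,390,424,303,196,839]
  U := [[],[0,5],[0,1],[0,1,3,5,1],[0,1,0,5],[0,1,0],[0,3,5,1,0],[3,5],[0,3,5],[0,1,5],[0,1,0,1],[0,1,3,5,1,0],[0,3],[5,1,2],[3],[0,5,1,2],[0,3,5,1],[0,1,0,1,2],[0,1,3],[0,1,5,1,0,1,2],[3,5,1,2],[5,1,2,3,2],[0,1,5,1,0,2],[0,5,1,2,3,2],[0,1,0,3,5],[0],[0,5,1,2,3,2,1,5],[0,5,1,0,2,3],[3,5,1,2,3,2],[5,1,2,3,2,1],[0,5,1,2,3,2,1],[0,5,1,2,3],[0,1,5,1,0,1,2,1],[0,1,3,5],[5],[0,1,0,3],[0,1,5,1,0,1],[0,1,5,1,2,3],[0,1,3,5,1,0,1],[0,5,1,0,2,1,3],[5,1,2,3,2,1,5],[5,1,2,3],[0,1,5,1,0],[0,5,1],[0,1,5,1,0,2,1],[3,5,1,2,3,2,1,0],[0,1,5,1,2],[3,5,1],[0,5,1,0],[3,5,1,2,3],[5,1],[0,5,1,0,2,1],[0,1,5,1,0,1,2,3],[0,5,1,0,2],[0,1,5,1],[3,5,1,2,3,2,1]]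
  gens := [[0,5],[1,3,2]]
  eqs := [(1,[0,0]),(2,[5,4]),(0,[0,0]),(3,[42,0]),(4,[0,0]),(5,[5,0]),(6,[0,0]),(7,[31,0]),(2,[0,0]),(8,[1,7]),(9,[0,0]),(10,[24,4]),(3,[0,0]),(11,[31,16]),(12,[0,0]),(13,[0,0]),(14,[0,0]),(15,[0,0]),(5,[0,0]),(16,[42,0]),(17,[0,18]),(18,[51,0]),(16,[0,0]),(19,[0,0]),(7,[0,0]),(14,[31,0]),(20,[31,7]),(21,[0,19]),(8,[0,0]),(0,[0,10]),(22,[0,0]),(23,[0,19]),(11,[0,0]),(1,[0,19]),(10,[0,18]),(12,[1,20]),(24,[0,0]),(25,[0,19]),(19,[0,4]),(26,[88,3]),(13,[31,7]),(27,[58,19]),(28,[31,7]),(29,[13,17]),(15,[0,0]),(30,[88,0]),(31,[42,0]),(32,[42,0]),(18,[0,0]),(33,[31,21]),(34,[0,0]),(35,[51,0]),(30,[49,1]),(36,[87,15]),(37,[0,0]),(38,[31,16]),(21,[31,7]),(39,[42,17]),(40,[49,8]),(41,[31,17]),(26,[49,1]),(42,[42,0]),(23,[42,0]),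(43,[0,19]),(44,[0,20]),(45,[2,11]),(35,[0,0]),(46,[0,0]),(25,[0,0]),(20,[0,0]),(33,[0,0]),(17,[0,0]),(36,[0,4]),(6,[42,0]),(27,[0,0]),(47,[31,0]),(38,[0,4]),(22,[0,0]),(39,[0,18]),(48,[0,0]),(29,[49,8]),(40,[13,7]),(49,[31,7]),(50,[0,19]),(43,[0,0]),(51,[55,0]),(42,[0,0]),(4,[5,0]),(32,[0,20]),(31,[42,0]),(45,[80,10]),(52,[74,2]),(53,[0,0]),(28,[31,0]),(50,[31,7]),(34,[0,19]),(54,[0,0]),(53,[31,17]),(41,[31,7]),(54,[5,0]),(47,[31,7]),(9,[5,0]),(51,[0,18]),(37,[42,0]),(52,[0,4]),(44,[0,0]),(46,[0,0]),(55,[2,0]),(48,[0,0]),(24,[51,0]),(55,[80,10]),(49,[31,17])]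
  tree := [(0,0),(0,0),(0,1),(1,1),(2,0),(2,1),(3,0),(3,1),(4,1),(5,0),(5,1),(6,1),(7,0),(7,1),(8,0),(8,1),(9,1),(10,0),(10,1),(11,1),(13,0),(13,1),(15,0),(15,1),(18,0),(18,1),(19,1),(20,1),(21,0),(21,1),(22,1),(23,0),(23,1),(24,1),(25,0),(25,1),(26,1),(27,0),(27,1),(28,1),(29,0),(29,1),(30,1),(31,1),(32,0),(32,1),(33,1),(37,1),(39,1),(41,0),(41,1),(42,1),(45,1),(46,0),(48,0),(53,1)]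
  nest := [[1,0,1,1,1,1,1,0,1,1,1,1,0,1,1,1,0,1,1,1,0],[0,1,0,1,1,0,1,0,1,1,1,1,0,1,0,1,0,1,1,1]]

/-- A level. -/
def lvl2 : Lvl where
  b := 76
  pts := [76,760,947,690,1708,291,975,1630,121,1457,417,612,616,266,955,574,910,1709,112,369,1625,791,758,874,122,474,1017,623,1094,127,904,173,1204,1095,1241,1268,840,1500,838,1239,843,185,708,1016,1456,456,287,974,1761,119,846,541,1299,1588,197,1748,834,1206,660,1449,1324,1151,187,1704,520,675,581,327,1308,540,1103,1451,757,397,945,1587,994,655,844,158,1097,1581,583,1340,845,701,307,570,485,605]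
  U := [[],[0,1,0,2,1,3,2,3],[0,3,2,1,5,1,2,3,2,3],[0,1,3,2,1,5,1,0,2,1,3,2],[0,3,2,1,0,3,5,1,0,2,3],[3,2,1,0],[0,1,0,2,1,3,2,1,3],[0,3,2,1,3,5,1,0,1,0,2],[0,1,3,2,1,0,3,2,5,1,0,2,1,3],[0,1,2,3,2,1,0,1,3,2,1,5,1,0,2,1,3],[0,1,0,3,2,1,0,1,3,2],[0,1,0,3,2,1,0,1,3],[0,1,0,3,2,1,0,1,3,2,1],[0,1,2,3,2],[0,3,2,1,3,5,1,0,2,1,3],[0,3,2,5,1,0,2,1,3,2,3,5,1,0,2],[3,2,1,0,1,3,2,1,0],[0,1,3,2,1,5,1,0,1,0,2],[0,1,2,3,2,1,0,1,2,3],[0,1,3,2,1,0,5,1,0,2,3,2],[0,1,2,3,2,1,0,1,3,2,1,5,1,0,2,3],[0,1,2,3,2,3,5,1,0,1,5],[0,1,0,1,2,1,3,2,1,3,2,3],[0,3,2,5,1,2,3,2,1,0,1,2,5],[3,2,1,0,1,2],[0,1,3,2,1,5,1,0,2,1,3,2,1],[0,3,2,1,3,2,3,2,1,0,1,0,2],[0,1,3,2,1,0,1,0,3,2,1,3,2],[0,1,0,3,2,1,3,2,3,2,1,0,1,0,2,3],[0,3,2,1,3,2,3,5,1,0,2,3],[0,3,2,1,0,1,3,2,3,2,5,1,0,1,5],[0,1,2,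3],[0,3,2,1,0,1,2,3,2,1,0,3,2,1,0,3],[3,2,1,0,1,3,2,3,2,1,0,5,1,0,2,3],[0,1,3,2,1,0,5,1,0,1,0],[0,1,0,2,1,3,2,1,3,2],[0,3,2,5,1,0,2,1,3,2,3,5,1,0],[0,1,3,2,1,5,1,0,1,0],[0,3,2,5,1,2,3,2,1,0,1,2,5,1],[0,3,2,5,1,2,3,2,1,0,1,5],[0,1,3,2,1,0,1,0,3,2,3],[0,1,3,2,1,0,3,2,5,1,0,2,3],[0,1,3,2,1,5,1,0,2,3],[0,1,3,2,1,3,2,1,0,1,0,3],[0,3,2,1,0,5,1,2,3,2,3],[0,1,3,2,1,0,5,1,0,2,3,2,1],[0,1,3,2,1,0,3,2,5,1,0,2,3,2],[3,2,1,0,3,2,1,0,1],[0,1,3,2,1,5,1,0,2,1,3,2,3,2,1,0],[3,2,1,0,1,2,3,2,1,0],[0,1,3,2,3,5,1,0,1,2,1,0,3,5],[0,1,0,3,2,1,0,3],[0,3,2,1,5,1,2,3,2,1,3],[0,1,0,2,1,3,2,5,1,0,1,5],[0,3,2,1,3,2,3,5,1,0,2,1,3],[0,1,3,2,5,1,0,2,1,0,1,5],[0,1,0,3,2,1,0,3,2,1],[0,1,3,2,3,5,1,0,1,2,1,0,3,5,1],[0,3,2,1,3,5,1,0,2,3],[0,1,0,2,1,3,2,3,5,1,0,1,2,5,1,0],[3,2,1,0,3,5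,1,0,1,5],[0,3,2,1,5,1,2,3,2,1,3,2],[3,2,1,0,1],[0,1,3,2,1,5,1,0,1,0,2,3,2,1,0],[0,1,0,1,2,3,2,1,0,3,2,3],[3,2,1,0,3,2,1,0],[0,3,2,1,0,1,3,2,1,0,3,2],[0,1,3,2,1,5,1,0,2,3,2,1],[0,3,2,1,3,5,1,0,2,1,3,2],[0,1,3,2,1,0,5,1,0,2,3],[0,3,2,1,0,5,1,2,3,2,1,3],[0,3,2,1,0,3,2,5,1,2,3,2,3],[0,1,0,1,2,3,2,1,0,3,2,1,3],[0,1,2,3,2,1],[0,1,2,3,2,3,5,1,0,1,2,5],[0,1,3,2,1,0,5,1,0,1,0,2],[0,1,3,2,1,5,1,0,2,1,3],[0,1,2,3,2,3,5,1,0,1,2,5,1],[0,1,0,2,1,3,2,1,0,1,3,2,3],[0,1,2,3,2,1,0,1,2,3,2],[0,3,2,1,0,3,2,5,1,2,3,2,1,3],[0,3,2,1,0,3,2,3,5,1,0,2,3],[5,1,2,3,2,1,0,1,3,2,3,2,1,5],[0,3,2,1,3,5,1,0,1,0],[0,3,2,1,0,1,3,2,1,0,3],[0,3,2,1,3,2,3,2,1,0,1,0],[0,3,2,1,3,2,3,5,1,0,2,1,3,2],[0,1,0,3,2,1,0,3,2],[0,1,3,2,1,5,1,0,2,3,2],[0,1,3,2,1,0,1,0,3,2,1,3]]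
  gens := [[0,2,1,0,1,5,1,2,3,2,3],[1,0,3,2,1,5,1,2,3,2,3]]
  eqs := [(1,[15]),(2,[4]),(3,[18]),(4,[1]),(5,[16]),(6,[15]),(7,[4]),(8,[6]),(9,[1]),(10,[11]),(2,[4]),(11,[16]),(12,[14]),(13,[1]),(0,[19]),(14,[1]),(15,[15]),(16,[13]),(17,[3]),(18,[0]),(19,[0]),(20,[6]),(21,[11]),(22,[21]),(23,[6]),(24,[14]),(13,[1]),(25,[14]),(26,[18]),(0,[19]),(27,[15]),(28,[17]),(29,[5]),(30,[6]),(31,[0]),(32,[23]),(33,[1]),(34,[12]),(35,[7]),(36,[13]),(37,[12]),(38,[0]),(39,[6]),(40,[8]),(41,[23]),(3,[8]),(42,[15]),(43,[20]),(44,[0]),(45,[16]),(16,[12]),(37,[19]),(46,[0]),(47,[9]),(48,[14]),(49,[16]),(47,[3]),(50,[7]),(51,[2]),(52,[16]),(53,[23]),(54,[8]),(4,[1]),(1,[15]),(49,[23]),(55,[22]),(56,[6]),(57,[20]),(58,[4]),(59,[20]),(60,[2]),(61,[16]),(62,[16]),(63,[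13]),(64,[18]),(7,[17]),(38,[15]),(53,[16]),(65,[12]),(66,[1]),(30,[8]),(21,[11]),(36,[13]),(67,[14]),(6,[15]),(64,[18]),(61,[16]),(23,[6]),(68,[19]),(69,[7]),(63,[14]),(70,[23]),(70,[23]),(51,[2]),(71,[0]),(46,[10]),(8,[6]),(56,[3]),(45,[16]),(48,[12]),(72,[18]),(65,[13]),(25,[14]),(44,[4]),(73,[2]),(74,[17]),(75,[17]),(76,[11]),(77,[2]),(5,[13]),(78,[17]),(79,[15]),(80,[1]),(41,[16]),(43,[12]),(42,[0]),(52,[13]),(81,[19]),(76,[11]),(72,[8]),(10,[11]),(75,[8]),(82,[17]),(83,[20]),(22,[18]),(29,[5]),(32,[23]),(17,[12]),(84,[23]),(33,[18]),(11,[16]),(85,[7]),(24,[5]),(60,[2]),(67,[1]),(82,[11]),(66,[22]),(86,[14]),(69,[7]),(58,[4]),(14,[2]),(35,[7]),(86,[20]),(9,[1]),(50,[17]),(87,[21]),(34,[12]),(88,[0]),(79,[0]),(62,[21]),(40,[4]),(39,[3]),(59,[14]),(31,[0]),(54,[15]),(27,[12]),(55,[5]),(12,[14]),(87,[8]),(89,[9]),(18,[16]),(68,[19]),(83,[2]),(26,[12]),(57,[5]),(77,[1]),(81,[19]),(78,[7]),(20,[1]),(71,[19]),(85,[12]),(80,[1]),(28,[23]),(15,[0]),(88,[0]),(84,[16]),(74,[17]),(73,[1]),(89,[9]),(19,[0])]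
  tree := [(0,0),(0,0),(0,1),(1,0),(1,1),(2,0),(2,1),(3,0),(3,1),(4,0),(4,1),(5,1),(6,0),(6,1),(7,1),(8,0),(8,1),(9,0),(9,1),(10,0),(10,1),(11,0),(11,1),(12,0),(12,1),(13,1),(14,0),(15,0),(15,1),(16,0),(16,1),(17,0),(17,1),(18,0),(18,1),(19,0),(19,1),(20,0),(20,1),(21,0),(21,1),(22,0),(23,0),(23,1),(24,0),(24,1),(26,0),(26,1),(27,0),(27,1),(28,1),(29,0),(29,1),(30,0),(30,1),(32,1),(33,0),(33,1),(34,0),(34,1),(35,0),(35,1),(36,0),(36,1),(37,0),(39,0),(39,1),(41,1),(44,0),(44,1),(45,1),(47,0),(50,0),(52,0),(52,1),(53,0),(53,1),(54,0),(55,0),(55,1),(56,0),(58,1),(61,0),(61,1),(64,0),(65,1),(68,1),(72,1),(73,1),(79,1)]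
  nest := [[0,1,0,1,0,0,1,0,0,0,1,0,0],[1,1,0,0,1,1,0,0,1,1,1,1,0]]

/-- A level. -/
def lvl3 : Lvl where
  b := 1475
  pts := [1475,1723,1728,1734,1528,1561,1693,1689,1770,1736,1727,1766,1769,1720,1651,1541,1740,1724,1729,1676,1737,1716,1741,1725]
  U := [[],[0,1,2,1,5,1,0,1,5],[1,5,1,0,1,2,5,1,0,1],[1,0,1,2,5,1,0,1,2,5],[1],[0,1,2,1,5,1,0,1,2,5,1],[1,0,1,2,1,5,1,0,1,5],[1,5,1,0,1,2,5,1,0],[0,1,2,5,1,0,1,5],[5,1,0,1,2,5,1,0,1],[1,2],[0,1,2,5,1,0,1,2,5],[2,5,1,0,1,2,5,1,0],[2,1],[2,1,5,1,0,1,2,5,1,0],[1,0,1,2,5,1,0,1,5],[0,1,2,1,5,1,0,1,2,5],[5,1,0,1,2,5,1,0],[0,1,0,1,0,2,5,1,0,1,0],[2],[1,2,1],[0,1,0,1,2,5,1,0,1,0],[0,1,2,5,1,0,1,2,5,1],[1,0,1,2,1,5,1,0,1,2,5]]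
  gens := [[0,1,2,1,5,1,0,1,5],[1,5,1,0,1,2,5,1,0,1]]
  eqs := [(1,[]),(2,[]),(3,[]),(4,[]),(5,[]),(6,[]),(7,[]),(8,[]),(6,[]),(9,[]),(10,[]),(7,[]),(11,[]),(0,[]),(0,[]),(12,[]),(9,[]),(13,[]),(14,[]),(1,[]),(15,[]),(16,[]),(17,[]),(15,[]),(13,[]),(5,[]),(18,[]),(3,[]),(19,[]),(17,[]),(2,[]),(20,[]),(12,[]),(21,[]),(4,[]),(22,[]),(16,[]),(19,[]),(8,[]),(23,[]),(21,[]),(11,[]),(23,[]),(10,[]),(20,[]),(14,[]),(22,[]),(18,[])]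
  tree := [(0,0),(0,0),(0,1),(1,0),(1,1),(2,0),(2,1),(3,0),(3,1),(4,1),(5,0),(6,0),(7,1),(8,1),(9,0),(10,0),(10,1),(11,0),(13,0),(14,0),(15,1),(16,1),(17,1),(19,1)]
  nest := []

/-- The levels. -/
def lvls : List Lvl := [lvl0, lvl1, lvl2, lvl3]

end H92.SuzU
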