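/-
The subgroup generated by a, b, c, d, f, g of the presented Suzuki group has index 22880.
-/
import Cfsg.Agent.H92.SuzU.Data

set_option autoImplicit false
set_option maxRecDepth 100000
set_option Elab.async false

namespace H92.SuzU

open H93 H93.Coset

theorem ok3 : lvlOK lvl3 [] = true := by decide +kernel

theorem ok2 : lvlOK lvl2 [lvl3] = true := by decide +kernel

theorem ok1 : lvlOK lvl1 [lvl2, lvl3] = true := by decide +kernel

theorem ok0 : lvlOK lvl0 [lvl1, lvl2, lvl3] = true := by decide +kernel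

theorem lvls_ok : chainsOK lvls = true := by
  simp only [lvls, chainsOK, ok0, ok1, ok2, ok3, Bool.and_self]

theorem lvls_prod : lvlProd lvls = 19595520 := by decide +kernel

theorem gens0 : lvl0.gens = [0, 1, 2, 3, 5, 6].map (fun g => [g]) := by decide +kernel

theorem card_K : Nat.card (Kh lvls) = 19595520 := (chains_spec lvls lvls_ok).1.trans lvls_prod

theorem index_eq :
    (((Subgroup.closure ({Cfsg.Spor.Suz.a, Cfsg.Spor.Suz.b, Cfsg.Spor.Suz.c, Cfsg.Spor.Suz.d, Cfsg.Spor.Suz.f, Cfsg.Spor.Suz.g} : Set (FreeGroup Cfsg.Spor.Suz.Gen))).map (PresentedGroup.mk (Cfsg.Spor.coxRelators Cfsg.Spor.Suz.edges ∪ {r | r ∈ Cfsg.Spor.Suz.extra})))).index = 22880 := by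
  have hK : (Subgroup.closure ({Cfsg.Spor.Suz.a, Cfsg.Spor.Suz.b, Cfsg.Spor.Suz.c, Cfsg.Spor.Suz.d, Cfsg.Spor.Suz.f, Cfsg.Spor.Suz.g} : Set (FreeGroup Cfsg.Spor.Suz.Gen))).map
      (PresentedGroup.mk (Cfsg.Spor.coxRelators Cfsg.Spor.Suz.edges ∪ {r | r ∈ Cfsg.Spor.Suz.extra})) =
        Kh lvls := by
    rw [MonoidHom.map_closure]
    show Subgroup.closure _ = Subgroup.closure {x | ∃ w ∈ lvl0.gens, sev w = x}
    congr 1
    ext x
    rw [gens0]
    have e : ∀ g, sev [g] = SuzOrder.gen g := fun g => by simp [sev, ev]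
    have hgen : ∀ a, SuzOrder.gen (SuzLG.ix a) = PresentedGroup.of a := SuzLG.fit.gen_ix
    have ha : PresentedGroup.mk (Cfsg.Spor.coxRelators Cfsg.Spor.Suz.edges ∪ {r | r ∈ Cfsg.Spor.Suz.extra}) Cfsg.Spor.Suz.a = sev [0] := by rw [e]; exact (hgen .a).symm
    have hb : PresentedGroup.mk (Cfsg.Spor.coxRelators Cfsg.Spor.Suz.edges ∪ {r | r ∈ Cfsg.Spor.Suz.extra}) Cfsg.Spor.Suz.b = sev [1] := by rw [e]; exact (hgen .b).symm
    have hc : PresentedGroup.mk (Cfsg.Spor.coxRelators Cfsg.Spor.Suz.edges ∪ {r | r ∈ Cfsg.Spor.Suz.extra}) Cfsg.Spor.Suz.c = sev [2] := by rw [e]; exact (hgen .c).symm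
    have hd : PresentedGroup.mk (Cfsg.Spor.coxRelators Cfsg.Spor.Suz.edges ∪ {r | r ∈ Cfsg.Spor.Suz.extra}) Cfsg.Spor.Suz.d = sev [3] := by rw [e]; exact (hgen .d).symm
    have hf : PresentedGroup.mk (Cfsg.Spor.coxRelators Cfsg.Spor.Suz.edges ∪ {r | r ∈ Cfsg.Spor.Suz.extra}) Cfsg.Spor.Suz.f = sev [5] := by rw [e]; exact (hgen .f).symm
    have hg : PresentedGroup.mk (Cfsg.Spor.coxRelators Cfsg.Spor.Suz.edges ∪ {r | r ∈ Cfsg.Spor.Suz.extra}) Cfsg.Spor.Suz.g = sev [6] := by rw [e]; exact (hgen .g).symm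
    simp only [List.map_cons, List.map_nil, Set.mem_image, Set.mem_insert_iff,
      Set.mem_singleton_iff, exists_eq_or_imp, exists_eq_left, Set.mem_ofPred_eq, List.mem_cons,
      List.not_mem_nil, or_false, ha, hb, hc, hd, hf, hg]
  rw [hK]
  haveI := finite
  have h := (Kh lvls).index_mul_card
  rw [card_K, card_G] at h
  exact Nat.eq_of_mul_eq_mul_right (by norm_num) (h.trans (by norm_num : (448345497600 : ℕ) = 22880 * 19595520))

end H92.SuzU
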